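import Cfsg.Agent.H413.L64.TorZ
import Cfsg.Agent.H876.L64.TFive

/-!
# S5916: the bracket of `E₈` over a field of characteristic two, on root vectors (helper413)

* `tg r s` : the index of the root `r + s` (240 if it is not a root);
* `br_rr` : `[e_r, e_s] = e_{r+s}` or `0`;
* `br_neg` : `[e_r, e_{-r}] = h_r`.
-/

set_option autoImplicit false
set_option maxRecDepth 100000

namespace Cfsg.Agent.H413.L16

open Cfsg Cfsg.Lie Cfsg.Lie.ChevalleyDatum
open Cfsg.Agent.ChevalleyStructure Cfsg.Agent.ChevalleyStructure.Ring Cfsg.Agent.ChevalleyStructure.LieAut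
  Cfsg.Agent.ChevalleyStructure.JacMain Cfsg.Agent.ChevalleyStructure.LieAbs
open Cfsg.Agent.H939.L64 Cfsg.Agent.H512.LinFour.IdealF
open Cfsg.Agent.ChevalleyStructure.Columns (car cor)
open Cfsg.Agent.H876.L64 (two_zero h_br br_h hE8)
open Cfsg.Agent.H413.L64 (charKK)

/-- the chain row -/
def row (r : ℕ) : List (ℕ × Array (ℕ × ℤ)) := (chevE8.chain.getD r #[]).toList

/-- the index of `r + s` -/
def tg (r s : ℕ) : ℕ := ((row r).find? fun e => e.1 == s).elim 240 fun e => (e.2.getD 0 (240, 0)).1

def okRow (r : ℕ) : Bool :=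
  let l := (chevE8.chain.getD r #[]).toList
  l.all (fun e => decide (e.1 < 240) && decide (e.1 ≠ r) && decide (e.1 ≠ 239 - r) && decide (e.2.toList.length = 1) &&
    decide ((e.2.getD 0 (240, 0)).1 < 240) && decide ((e.2.getD 0 (240, 0)).2 % 2 ≠ 0)) &&
  (l.zip l.tail).all fun p => decide (p.1.1 < p.2.1)

theorem ok_all : ((List.range 240).all okRow) = true := by decide +kernel

theorem filter_find {β : Type*} (s : ℕ) : ∀ l : List (ℕ × β), ((l.zip l.tail).all fun p => decide (p.1.1 < p.2.1)) = true →
    (l.filter fun e => e.1 = s) = (l.find? fun e => e.1 == s).toList := by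
  have key : ∀ (l : List (ℕ × β)) (a : ℕ × β), (((a :: l).zip l).all fun p => decide (p.1.1 < p.2.1)) = true →
      ∀ e ∈ l, a.1 < e.1 := by
    intro l
    induction l with
    | nil => intro a _ e he; exact absurd he (by simp)
    | cons b l ih =>
      intro a h e he
      rw [List.zip_cons_cons, List.all_cons, Bool.and_eq_true, decide_eq_true_eq] at h
      rcases List.mem_cons.1 he with rfl | he
      · exact h.1
      · exact h.1.trans (ih b h.2 e he)
  intro l
  induction l with
  | nil => intro _; rfl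
  | cons a l ih =>
    intro h
    rw [List.tail_cons] at h
    have hk := key l a h
    have h' : ((l.zip l.tail).all fun p => decide (p.1.1 < p.2.1)) = true := by
      cases l with
      | nil => rfl
      | cons b l =>
        rw [List.zip_cons_cons, List.all_cons, Bool.and_eq_true] at h
        exact h.2
    by_cases hs : a.1 = s
    · rw [List.filter_cons_of_pos (by simpa using hs), List.find?_cons_of_pos (by simpa using hs)]
      have : l.filter (fun e => e.1 = s) = [] := by
        rw [List.filter_eq_nil_iff]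
        intro e he h1
        have := hk e he
        have h2 : e.1 = s := by simpa using h1
        omega
      rw [this]
      rfl
    · rw [List.filter_cons_of_neg (by simpa using hs), List.find?_cons_of_neg (by simpa using hs), ih h']

theorem okRow_spec {r : ℕ} (hr : r < 240) : okRow r = true := List.all_eq_true.1 ok_all r (List.mem_range.2 hr)

/-- the coefficient of `e_u` in `[e_r, e_s]`, up to a multiple of two -/
theorem chain_mod {r s u : ℕ} (hr : r < 240) :
    (((chevE8.chainCoeff r s u).map fun km => if km.1 = 1 then km.2 else 0).sum % 2 ≠ 0 ↔ tg r s = u ∧ u < 240) ∧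
    (tg r s < 240 → s ≠ r ∧ s ≠ 239 - r ∧ s < 240) ∧ tg r s ≤ 240 := by
  have h := okRow_spec hr
  unfold okRow at h
  rw [Bool.and_eq_true] at h
  obtain ⟨h1, h2⟩ := h
  have h3 := filter_find s _ h2
  unfold chainCoeff tg row
  rw [h3]
  cases hf : (chevE8.chain.getD r #[]).toList.find? (fun e => e.1 == s) with
  | none =>
    simp
    intro h4
    omega
  | some e =>
    have he := List.mem_of_find?_eq_some hf
    have hes : e.1 = s := by simpa using List.find?_some hf
    have h4 := List.all_eq_true.1 h1 e he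
    simp only [Bool.and_eq_true, decide_eq_true_eq] at h4
    obtain ⟨⟨⟨⟨⟨a1, a2⟩, a3⟩, a4⟩, a5⟩, a6⟩ := h4
    obtain ⟨x, hx⟩ := List.length_eq_one_iff.1 a4
    have hg : e.2.getD 0 (240, 0) = x := by
      have h5 : e.2 = #[x] := by rw [← Array.toArray_toList (xs := e.2), hx]
      rw [h5]
      rfl
    rw [hg] at a5 a6
    subst hes
    show ((((([e].flatMap fun e => (e.2.toList.zipIdx.filter fun q => decide (q.1.1 = u)).map fun q => (q.2 + 1, q.1.2)).map
      fun km => if km.1 = 1 then km.2 else 0).sum % 2 ≠ 0) ↔ (e.2.getD 0 (240, 0)).1 = u ∧ u < 240) ∧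
      ((e.2.getD 0 (240, 0)).1 < 240 → _) ∧ (e.2.getD 0 (240, 0)).1 ≤ 240)
    rw [hg]
    refine ⟨?_, fun _ => ⟨a2, a3, a1⟩, a5.le⟩
    rw [List.flatMap_singleton, hx, List.zipIdx_singleton]
    by_cases hu : x.1 = u
    · subst hu
      rw [List.filter_cons_of_pos (by simp)]
      simp only [List.filter_nil, List.map_cons, List.map_nil, zero_add, if_true, List.sum_cons, List.sum_nil, add_zero]
      exact ⟨fun _ => ⟨trivial, a5⟩, fun _ => a6⟩
    · rw [List.filter_cons_of_neg (by simpa using hu)]
      simp [hu]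

theorem nr : chevE8.nroots = 240 := by decide +kernel

theorem rk8 : chevE8.rank = 8 := by decide +kernel

theorem cast_even {a : ℤ} (h : a % 2 = 0) : (a : KK) = 0 := by
  obtain ⟨b, rfl⟩ := Int.dvd_of_emod_eq_zero h
  rw [Int.cast_mul, Int.cast_ofNat, two_zero, zero_mul]

theorem cast_odd {a : ℤ} (h : a % 2 ≠ 0) : (a : KK) = 1 := by
  have h1 : (a - 1) % 2 = 0 := by omega
  have h2 := cast_even h1
  rw [Int.cast_sub, Int.cast_one, sub_eq_zero] at h2
  exact h2

/-- the root vector with the index `s` (0 if `s ≥ 240`) -/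
noncomputable def er (s : ℕ) : LK := if h : s < chevE8.nroots then Pi.single (Sum.inr ⟨s, h⟩) 1 else 0

/-- the elements of the Cartan subalgebra -/
noncomputable def hv (c : Fin chevE8.rank → KK) : LK := Sum.elim c 0

/-- `h_r` -/
noncomputable def hr (r : ℕ) : LK := hv fun i => ((cor chevE8 r i : ℤ) : KK)

theorem er_of {s : ℕ} (h : s < chevE8.nroots) : er s = Pi.single (Sum.inr ⟨s, h⟩) 1 := dif_pos h

theorem er_ge {s : ℕ} (h : 240 ≤ s) : er s = 0 := dif_neg (by rw [nr]; omega)

theorem neg_eq {r : ℕ} (hr : r < 240) : chevE8.negIdx.getD r 0 = 239 - r := by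
  have h : ((List.range 240).all fun r => decide (chevE8.negIdx.getD r 0 = 239 - r)) = true := by decide +kernel
  exact of_decide_eq_true (List.all_eq_true.1 h r (List.mem_range.2 hr))

/-- the bracket of a root vector with a basis vector, in coordinates -/
theorem br_er_single {r : ℕ} (hr : r < chevE8.nroots) (c a : chevE8.Idx) :
    brK (er r) (Pi.single c 1) a = (coefE chevE8 r 1 a c : KK) := by
  rw [er_of hr]
  show (adv (adR chevE8 KK) (Pi.single (Sum.inr ⟨r, hr⟩) 1)).mulVec (Pi.single c 1) a = _
  rw [adv_single_one, Matrix.mulVec_single_one]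
  show adR chevE8 KK (Sum.inr ⟨r, hr⟩) a c = _
  rw [adR_def, Matrix.map_apply]
  rfl

/-- **the bracket of two root vectors** -/
theorem br_rr {r s : ℕ} (hr : r < 240) (hs : s < 240) (hn : s ≠ 239 - r) : brK (er r) (er s) = er (tg r s) := by
  have hr' : r < chevE8.nroots := by rw [nr]; exact hr
  have hs' : s < chevE8.nroots := by rw [nr]; exact hs
  funext a
  rw [er_of hs', br_er_single hr', coefE_entry chevE8 r 1 hr']
  by_cases hrs : s = r
  · subst hrs
    have h1 : tg s s = 240 := by
      obtain ⟨-, h2, h3⟩ := chain_mod (s := s) (u := 0) hr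
      by_contra h4
      exact (h2 (by omega)).1 rfl
    rw [h1, er_ge le_rfl]
    rcases a with a | a <;> simp
  · rw [neg_eq hr]
    rcases a with a | a
    · simp only [if_neg hrs, if_neg hn]
      unfold er
      split_ifs <;> simp
    · simp only [if_neg hrs, if_neg hn]
      rw [if_neg (by omega), zero_add]
      obtain ⟨h1, -, h3⟩ := chain_mod (s := s) (u := a) hr
      have ha : (a : ℕ) < 240 := lt_of_lt_of_eq a.2 nr
      by_cases h4 : tg r s = a
      · rw [cast_odd (h1.2 ⟨h4, ha⟩), er_of (by rw [h4]; exact a.2)]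
        have : (Sum.inr ⟨tg r s, by rw [h4]; exact a.2⟩ : chevE8.Idx) = Sum.inr a := by
          congr 1
          exact Fin.ext h4
        rw [this, Pi.single_eq_same]
      · have h5 : ¬ ((((chevE8.chainCoeff r s a).map fun km => if km.1 = 1 then km.2 else 0).sum % 2 ≠ 0)) :=
          fun h => h4 (h1.1 h).1
        rw [not_not] at h5
        rw [cast_even h5]
        unfold er
        split_ifs with h6
        · rw [Pi.single_eq_of_ne]
          intro h7
          exact h4 (congrArg Fin.val (Sum.inr.inj h7)).symm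
        · rfl

/-- **the bracket of opposite root vectors** -/
theorem br_neg {r : ℕ} (hr : r < 240) : brK (er r) (er (239 - r)) = Cfsg.Agent.H413.L16.hr r := by
  have hr' : r < chevE8.nroots := by rw [nr]; exact hr
  have hs' : 239 - r < chevE8.nroots := by rw [nr]; omega
  funext a
  rw [er_of hs', br_er_single hr', coefE_entry chevE8 r 1 hr', neg_eq hr]
  have h1 : ¬ (239 - r = r) := by omega
  rcases a with a | a
  · simp only [if_neg h1, if_true]
    rfl
  · simp only [if_neg h1, if_true]
    show (((if a = (⟨239 - r, hs'⟩ : Fin chevE8.nroots) then (if 1 = 0 then 1 else 0) else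
      if 1 = 2 ∧ (a : ℕ) = r then -1 else 0 : ℤ)) : KK) = 0
    split_ifs <;> simp_all

/-- the bracket of an element of the Cartan subalgebra with a root vector -/
theorem br_hv (c : Fin chevE8.rank → KK) {s : ℕ} (hs : s < 240) :
    brK (hv c) (er s) = (∑ i, c i * ((car chevE8 i s : ℤ) : KK)) • er s := by
  have hs' : s < chevE8.nroots := by rw [nr]; exact hs
  unfold hv
  rw [h_br, er_of hs']
  funext a
  rcases a with a | a
  · simp
  · rw [Sum.elim_inr, Pi.smul_apply, smul_eq_mul]
    by_cases h : a = ⟨s, hs'⟩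
    · subst h; rfl
    · rw [Pi.single_eq_of_ne (fun h1 => h (Sum.inr.inj h1)), mul_zero, mul_zero]

theorem br_hh (c c' : Fin chevE8.rank → KK) : brK (hv c) (hv c') = 0 := by
  unfold hv
  rw [h_br]
  funext a
  rcases a with a | a
  · rfl
  · show _ * (0 : KK) = 0
    rw [mul_zero]

theorem tg_le {r : ℕ} (hr : r < 240) (s : ℕ) : tg r s ≤ 240 := (chain_mod (u := 0) hr).2.2

theorem cast_congr {a b : ℤ} (h : (a - b) % 2 = 0) : (a : KK) = (b : KK) := by
  have := cast_even h
  rwa [Int.cast_sub, sub_eq_zero] at this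

/-- the basis vectors -/
theorem single_eq (k : chevE8.Idx) : (Pi.single k 1 : LK) = Sum.elim (fun i => hv (Pi.single i 1)) (fun s => er s) k := by
  rcases k with i | s
  · funext a
    rcases a with a | a
    · show (Pi.single (Sum.inl i) 1 : LK) (Sum.inl a) = (Pi.single i 1 : Fin chevE8.rank → KK) a
      by_cases h : a = i
      · subst h; rw [Pi.single_eq_same, Pi.single_eq_same]
      · rw [Pi.single_eq_of_ne h, Pi.single_eq_of_ne (fun h1 => h (Sum.inl.inj h1))]
    · exact Pi.single_eq_of_ne (by simp) _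
  · exact (er_of s.2).symm

/-- the inverse of the Cartan matrix modulo two -/
def iC : Fin 8 → Fin 8 → ℤ := ![![0, 1, 1, 0, 0, 0, 0, 0], ![1, 0, 0, 1, 0, 1, 0, 1], ![1, 0, 0, 0, 0, 0, 0, 0], ![0, 1, 0, 0, 0, 0, 0, 0], ![0, 0, 0, 0, 0, 1, 0, 1], ![0, 1, 0, 0, 1, 0, 0, 0], ![0, 0, 0, 0, 0, 0, 0, 1], ![0, 1, 0, 0, 1, 0, 1, 0]]

/-- the indices of the simple roots -/
def six : Fin 8 → ℕ := ![162, 141, 135, 130, 126, 123, 121, 120]

theorem iC_spec : ∀ i k : Fin 8, ((∑ s : Fin 8, iC i s * car chevE8 k (six s)) - if k = i then 1 else 0) % 2 = 0 := by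
  decide +kernel

theorem six_lt : ∀ s, six s < 240 := by decide

theorem odd_all : ((List.range 240).all fun s => (List.range 8).any fun i => decide (car chevE8 i s % 2 ≠ 0)) = true := by
  decide +kernel

theorem jac (x y z : LK) : brK x (brK y z) = brK (brK x y) z + brK y (brK x z) :=
  Cfsg.Agent.H971.RV.br_br hE8 x y z

theorem ad_inj {w : LK} (h : ∀ z, brK w z = 0) : w = 0 := by
  have h1 : ∀ s : Fin chevE8.nroots, w (Sum.inr s) = 0 := by
    intro s
    obtain ⟨i, hi, h2⟩ := List.any_eq_true.1 (List.all_eq_true.1 odd_all (s : ℕ) (List.mem_range.2 (lt_of_lt_of_eq s.2 nr)))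
    have hi' : i < chevE8.rank := by rw [rk8]; exact List.mem_range.1 hi
    have h3 := congrFun (h (Pi.single (Sum.inl ⟨i, hi'⟩) 1)) (Sum.inr s)
    rw [br_h] at h3
    have h4 := cast_odd (of_decide_eq_true h2)
    rw [show ((car chevE8 ((⟨i, hi'⟩ : Fin chevE8.rank) : ℕ) s : ℤ) : KK) = 1 from h4] at h3
    simpa using h3
  have h2 : w = hv fun i => w (Sum.inl i) := by
    funext a
    rcases a with a | a
    · rfl
    · exact h1 a
  have h3 : ∀ s : Fin 8, ∑ i, w (Sum.inl i) * ((car chevE8 i (six s) : ℤ) : KK) = 0 := by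
    intro s
    have h4 := h (er (six s))
    rw [h2, br_hv _ (six_lt s)] at h4
    have hs' : six s < chevE8.nroots := by rw [nr]; exact six_lt s
    have h5 := congrFun h4 (Sum.inr ⟨six s, hs'⟩)
    rw [Pi.smul_apply, er_of hs', Pi.single_eq_same, smul_eq_mul, mul_one] at h5
    exact h5
  funext a
  rcases a with a | a
  · have h6 : w (Sum.inl a) = ∑ s : Fin 8, ((iC (a.cast rk8) s : ℤ) : KK) *
        ∑ i : Fin chevE8.rank, w (Sum.inl i) * ((car chevE8 i (six s) : ℤ) : KK) := by
      simp_rw [Finset.mul_sum]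
      rw [Finset.sum_comm]
      rw [Finset.sum_eq_single a]
      · have h7 := cast_odd (a := ∑ s : Fin 8, iC (a.cast rk8) s * car chevE8 a (six s)) (by
          have := iC_spec (a.cast rk8) (a.cast rk8)
          rw [if_pos rfl] at this
          have e : ((a.cast rk8 : Fin 8) : ℕ) = a := rfl
          rw [e] at this
          omega)
        push_cast at h7
        calc w (Sum.inl a) = w (Sum.inl a) * 1 := (mul_one _).symm
          _ = w (Sum.inl a) * ∑ s : Fin 8, ((iC (a.cast rk8) s : ℤ) : KK) * ((car chevE8 a (six s) : ℤ) : KK) := by rw [h7]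
          _ = _ := by
            rw [Finset.mul_sum]
            exact Finset.sum_congr rfl fun s _ => by ring
      · intro b _ hb
        have h7 := cast_even (a := ∑ s : Fin 8, iC (a.cast rk8) s * car chevE8 b (six s)) (by
          have := iC_spec (a.cast rk8) (b.cast rk8)
          rw [if_neg (show ¬ (b.cast rk8 = a.cast rk8) from fun h => hb (Fin.ext (congrArg Fin.val h)))] at this
          have e : ((b.cast rk8 : Fin 8) : ℕ) = b := rfl
          rw [e] at this
          omega)
        push_cast at h7
        calc _ = w (Sum.inl b) * ∑ s : Fin 8, ((iC (a.cast rk8) s : ℤ) : KK) * ((car chevE8 b (six s) : ℤ) : KK) := by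
              rw [Finset.mul_sum]
              exact Finset.sum_congr rfl fun s _ => by ring
          _ = 0 := by rw [h7, mul_zero]
      · intro h; exact absurd (Finset.mem_univ _) h
    rw [h6]
    simp_rw [h3, mul_zero]
    exact Finset.sum_const_zero
  · exact h1 a

/-- **the bracket is symmetric** (characteristic two) -/
theorem br_comm (v w : LK) : brK v w = brK w v := by
  have h : brK v w + brK w v = 0 := by
    apply ad_inj
    intro z
    have h1 := jac v w z
    have h2 := jac w v z
    rw [show brK (brK v w + brK w v) z = brK (brK v w) z + brK (brK w v) z from Cfsg.Agent.H971.RV.br_add_left _ _ _]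
    rw [h2] at h1
    have h3 : (brK (brK v w) z + brK (brK w v) z) + brK v (brK w z) = brK v (brK w z) := by
      conv_rhs => rw [h1]
      abel
    exact add_eq_right.1 h3
  have h4 : brK w v + brK w v = 0 := by
    rw [← two_smul KK, two_zero, zero_smul]
  exact add_right_cancel (h.trans h4.symm)

theorem hr_neg {r : ℕ} (h : r < 240) : hr (239 - r) = hr r := by
  have h1 := br_neg (r := 239 - r) (by omega)
  rw [show 239 - (239 - r) = r by omega, br_comm, br_neg h] at h1
  exact h1.symm

theorem tg_symm {r s : ℕ} (hr : r < 240) (hs : s < 240) (hn : s ≠ 239 - r) : er (tg r s) = er (tg s r) := by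
  rw [← br_rr hr hs hn, ← br_rr hs hr (by omega), br_comm]

theorem br_er_hv (c : Fin chevE8.rank → KK) {s : ℕ} (hs : s < 240) :
    brK (er s) (hv c) = (∑ i, c i * ((car chevE8 i s : ℤ) : KK)) • er s := by
  rw [br_comm, br_hv c hs]

/-- the bracket as a bilinear map -/
noncomputable def brM : LK →ₗ[KK] LK →ₗ[KK] LK :=
  LinearMap.mk₂ KK brK (fun u v w => Cfsg.Agent.H971.RV.br_add_left u v w)
    (fun c v w => Cfsg.Agent.H971.RV.br_smul_left c v w) (fun u v w => Cfsg.Agent.H971.RV.br_add_right u v w)
    (fun c v w => Cfsg.Agent.H971.RV.br_smul_right c v w)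

end Cfsg.Agent.H413.L16
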