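import Cfsg.Agent.H413.L16.Fr
import Cfsg.Agent.H939.L16.Def

/-!
# S5916: the frame of an element of order 17 of `E₈(2)` (helper413)

* `m16` : the product of seven reflection elements; `aK_m16` : its action on the root vectors (the table `WT`);
* `frame16` : `z⁻¹ φ(z) = m16`, `z⁻¹ y z = t` in the torus with the values `V16`;
* `tau16 = m16 ^ 4`, `Fp16 = m16 ∘ fr`; `ops16 : Ops Fp16 ta16`, `frob16`.
-/

set_option autoImplicit false
set_option linter.unusedSectionVars false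
set_option maxRecDepth 100000

namespace Cfsg.Agent.H413.L16

open CoxeterSystem Cfsg Cfsg.Lie Cfsg.Lie.ChevalleyDatum
open Cfsg.Agent.ChevalleyStructure Cfsg.Agent.ChevalleyStructure.Elts Cfsg.Agent.ChevalleyStructure.CoxeterGeom
  Cfsg.Agent.ChevalleyStructure.CoxeterGeomTypes Cfsg.Agent.ChevalleyStructure.NPerm
open Cfsg.Agent.ChevalleyStructure.LieAbs Cfsg.Agent.ChevalleyStructure.LieAut
open Cfsg.Agent.ChevalleyStructure.Columns (car cor)
open Cfsg.Agent.ChevalleyStructure.RootVec (rt)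
open Cfsg.Agent.Tits.Roots Cfsg.Agent.Tits.Core Cfsg.Agent.Nodes Cfsg.Agent.Nodes.Reps Cfsg.Agent.Nodes.BNOf
  Cfsg.Agent.Nodes.RGDChev Cfsg.Agent.Nodes.Bruhat Cfsg.Agent.Nodes.SubComb Cfsg.Agent.Nodes.Coroot
open Cfsg.Agent.KFacts.RgdField Cfsg.Agent.KFacts.RgdChevCoord Cfsg.Agent.BpExc.TorCent Cfsg.Agent.BpExc.TorChev
open Cfsg.Agent.GpExc.Field Cfsg.Agent.BpExc.Tow Cfsg.Agent.BpExc.TowChev Cfsg.Agent.BpExc.Fr
  Cfsg.Agent.BpExc.LangFr Cfsg.Agent.LangThm Cfsg.Agent.BpExc Cfsg.Agent.H129.TorusMain Cfsg.Agent.H129.TorusUntw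
open Cfsg.Agent.H129.TorusChar (cX cX_pow cX_one cX_inj isMC_cX cX_root cX_rp cX_mul ch_sigma exists_cX)
open Cfsg.Agent.H720.TorusReal Cfsg.Agent.H897
open Cfsg.Agent.H897.T5Frame (bc rc bf_eq)
open Cfsg.Agent.H897.T5UntwRow (A8)
open Cfsg.Agent.H378.TorFin (phi_emb' fix_mem)
open Cfsg.Agent.BpExc.RowsUntw (e8T)
open Cfsg.Agent.H939.L64
open Cfsg.Agent.H939.L16 (V16 WT wi Ops wt16)
open Cfsg.Agent.H413.L64
open Cfsg.Agent.H876.L64

/-! ### the element `m` -/

/-- the element `m = ∏ n_r` -/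
noncomputable def m16 : ↥(chevE8.group KK) := nn 124 * nn 127 * nn 165 * nn 169 * nn 140 * nn 146 * nn 239

/-- its action on the indices -/
def rf7 (s : ℕ) : ℕ := rf 124 (rf 127 (rf 165 (rf 169 (rf 140 (rf 146 (rf 239 s))))))

theorem okN_m : okN 124 = true ∧ okN 127 = true ∧ okN 165 = true ∧ okN 169 = true ∧ okN 140 = true ∧ okN 146 = true ∧
    okN 239 = true := by decide +kernel

theorem rf7_wi : ((List.range 240).all fun s => decide (rf7 s = wi s)) = true := by decide +kernel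

theorem wi_neg' : ((List.range 240).all fun s => decide (wi (239 - s) = 239 - wi s ∧
    wi (wi (wi (wi (wi (wi (wi (wi s))))))) = s)) = true := by decide +kernel

theorem wi_neg {s : ℕ} (hs : s < 240) : wi (239 - s) = 239 - wi s :=
  (of_decide_eq_true (List.all_eq_true.1 wi_neg' s (List.mem_range.2 hs))).1

theorem wi_eight {s : ℕ} (hs : s < 240) : wi (wi (wi (wi (wi (wi (wi (wi s))))))) = s :=
  (of_decide_eq_true (List.all_eq_true.1 wi_neg' s (List.mem_range.2 hs))).2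

theorem aK_m16' {s : ℕ} (hs : s < 240) : aK m16 (er s) = er (rf7 s) ∧ rf7 s < 240 := by
  obtain ⟨k1, k2, k3, k4, k5, k6, k7⟩ := okN_m
  obtain ⟨h7, g7⟩ := aK_nn (r := 239) (by norm_num) k7 hs
  obtain ⟨h6, g6⟩ := aK_nn (r := 146) (by norm_num) k6 g7
  obtain ⟨h5, g5⟩ := aK_nn (r := 140) (by norm_num) k5 g6
  obtain ⟨h4, g4⟩ := aK_nn (r := 169) (by norm_num) k4 g5
  obtain ⟨h3, g3⟩ := aK_nn (r := 165) (by norm_num) k3 g4
  obtain ⟨h2, g2⟩ := aK_nn (r := 127) (by norm_num) k2 g3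
  obtain ⟨h1, g1⟩ := aK_nn (r := 124) (by norm_num) k1 g2
  refine ⟨?_, g1⟩
  unfold m16
  rw [aK_mul, aK_mul, aK_mul, aK_mul, aK_mul, aK_mul, h7, h6, h5, h4, h3, h2, h1]
  rfl

theorem rf7_eq {s : ℕ} (hs : s < 240) : rf7 s = wi s :=
  of_decide_eq_true (List.all_eq_true.1 rf7_wi s (List.mem_range.2 hs))

theorem wi_lt {s : ℕ} (hs : s < 240) : wi s < 240 := by
  rw [← rf7_eq hs]
  exact (aK_m16' hs).2

/-- **the action of `m`** -/
theorem aK_m16 {s : ℕ} (hs : s < 240) : aK m16 (er s) = er (wi s) := by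
  rw [← rf7_eq hs]
  exact (aK_m16' hs).1

theorem aK_m16_hr {s : ℕ} (hs : s < 240) : aK m16 (hr s) = hr (wi s) :=
  aK_hr hs (wi_lt hs) (aK_m16 hs) (by rw [aK_m16 (by omega), wi_neg hs])

/-! ### elements fixing the root vectors -/

theorem six_cor : ∀ s i : Fin 8, cor chevE8 (six s) i = if i = s then 1 else 0 := by decide +kernel

theorem hr_six (k : Fin chevE8.rank) : hr (six (k.cast rk8)) = hv (Pi.single k 1) := by
  unfold hr
  congr 1
  funext i
  have h := six_cor (k.cast rk8) (i.cast rk8)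
  have e : ((i.cast rk8 : Fin 8) : ℕ) = i := rfl
  rw [e] at h
  rw [h]
  by_cases h1 : i = k
  · subst h1
    rw [if_pos rfl, Pi.single_eq_same, Int.cast_one]
  · rw [if_neg (show ¬ Fin.cast rk8 i = Fin.cast rk8 k from fun h2 => h1 (Fin.ext (congrArg Fin.val h2))),
      Pi.single_eq_of_ne h1, Int.cast_zero]

/-- two elements with the same action on the root vectors are equal -/
theorem eq_of_er {g h : ↥(chevE8.group KK)} (he : ∀ s < 240, aK g (er s) = aK h (er s)) : g = h := by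
  have h1 : ∀ s < 240, aK g (hr s) = aK h (hr s) := fun s hs => by
    rw [← br_neg hs, aK_brK, aK_brK, he s hs, he (239 - s) (by omega)]
  have h2 : ∀ k : chevE8.Idx, aK g (Pi.single k 1) = aK h (Pi.single k 1) := by
    intro k
    rw [single_eq]
    rcases k with i | s
    · show aK g (hv (Pi.single i 1)) = aK h (hv (Pi.single i 1))
      rw [← hr_six]
      exact h1 _ (six_lt _)
    · exact he _ (lt_of_lt_of_eq s.2 nr)
  apply Subtype.ext
  apply Units.ext
  exact Matrix.ext_of_mulVec_single h2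

theorem m16_pow : m16 ^ 8 = 1 := by
  apply eq_of_er
  intro s hs
  have h1 := wi_lt hs
  have h2 := wi_lt h1
  have h3 := wi_lt h2
  have h4 := wi_lt h3
  have h5 := wi_lt h4
  have h6 := wi_lt h5
  have h7 := wi_lt h6
  have e : m16 ^ 8 = m16 * (m16 * (m16 * (m16 * (m16 * (m16 * (m16 * m16)))))) := by
    simp only [pow_succ, pow_zero, one_mul, mul_assoc]
  rw [e, aK_mul, aK_mul, aK_mul, aK_mul, aK_mul, aK_mul, aK_mul, aK_one, aK_m16 hs, aK_m16 h1, aK_m16 h2, aK_m16 h3,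
    aK_m16 h4, aK_m16 h5, aK_m16 h6, aK_m16 h7, wi_eight hs]

/-! ### the Weyl group -/

/-- the roots of the seven reflections -/
def rts7 : List (Fin 8 → ℤ) := [124, 127, 165, 169, 140, 146, 239].map fun r => vec chevE8 8 r

theorem good_m16 : ∃ w, Good w m16 ∧ ∀ x, act w x = rts7.foldr (rc A8) x := by
  obtain ⟨w1, h1, e1⟩ := good_nn (r := 124) (by norm_num)
  obtain ⟨w2, h2, e2⟩ := good_nn (r := 127) (by norm_num)
  obtain ⟨w3, h3, e3⟩ := good_nn (r := 165) (by norm_num)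
  obtain ⟨w4, h4, e4⟩ := good_nn (r := 169) (by norm_num)
  obtain ⟨w5, h5, e5⟩ := good_nn (r := 140) (by norm_num)
  obtain ⟨w6, h6, e6⟩ := good_nn (r := 146) (by norm_num)
  obtain ⟨w7, h7, e7⟩ := good_nn (r := 239) (by norm_num)
  refine ⟨_, (((((h1.mul h2).mul h3).mul h4).mul h5).mul h6).mul h7, fun x => ?_⟩
  have hm : ∀ (v w : CoxeterMatrix.E₈.Group) (x : Fin 8 → ℤ), act (v * w) x = act v (act w x) :=
    fun v w x => rep_mul_apply _ _ _ _ _
  rw [hm, hm, hm, hm, hm, hm, e7, e6, e5, e4, e3, e2, e1]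
  rfl

theorem V16_w : ∀ i, (17 : ℤ) ∣ vl V16 (rts7.foldr (rc A8) (sr i)) - 2 * vl V16 (sr i) := by decide +kernel

/-! ### the frame -/

/-- **the frame of an element of order 17** -/
theorem frame16 {x : E2} {ζ : KK} (h : TorZ x 17 V16 ζ) : ∃ z t : ↥(chevE8.group KK),
    z⁻¹ * em x * z = t ∧ t ∈ TT chevE8 KK ∧ (∀ i, cX e8T t (sr i) = ζ ^ (V16 i).val) ∧
      z⁻¹ * phi chevE8 KK 2 1 z = m16 := by
  have hch := charKK
  obtain ⟨hζ, z0, t, hz0, ht, hvt⟩ := h
  obtain ⟨w, hw, hL⟩ := good_m16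
  have hcard : Nat.card (ZMod 2) = 2 ^ 1 := by simp
  obtain ⟨z, hz, hzm⟩ := frame8z 2 1 hcard (N := 17) (by norm_num) (by decide) locKK one_pos hζ hz0 ht hvt (w := w) (by
    intro i
    have h1 := V16_w i
    rw [← hL] at h1
    exact h1) hw.rp
  exact ⟨z, t, hz, ht, hvt, hzm⟩

/-! ### the Frobenius map -/

theorem fr_aK (g : ↥(chevE8.group KK)) (v : LK) : fr (aK g v) = aK (phi chevE8 KK 2 1 g) (fr v) := by
  have hch := charKK
  have hφ : ∀ c : KK, iterateFrobenius KK 2 1 c = c ^ 2 := fun c => by rw [iterateFrobenius_def, pow_one]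
  funext i
  unfold aK fr
  rw [coe_phi, coe_glMap, Matrix.mulVec, Matrix.mulVec, dotProduct, dotProduct, ← hφ, map_sum]
  refine Finset.sum_congr rfl fun j _ => ?_
  rw [map_mul, hφ (v j)]
  rfl

theorem fr_br (u v : LK) : fr (brK u v) = brK (fr u) (fr v) := by
  have hch := charKK
  have hφ : ∀ c : KK, frobenius KK 2 c = c ^ 2 := fun c => rfl
  funext i
  show (adv (adR chevE8 KK) u).mulVec v i ^ 2 = (adv (adR chevE8 KK) (fr u)).mulVec (fr v) i
  rw [← hφ, Matrix.mulVec, Matrix.mulVec, dotProduct, dotProduct, map_sum]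
  refine Finset.sum_congr rfl fun j _ => ?_
  rw [map_mul, hφ (v j)]
  have h1 := adv_map (frobenius KK 2) (adR chevE8 KK) u
  have h2 := congrFun (congrFun h1 i) j
  rw [Matrix.map_apply] at h2
  rw [h2]
  have h3 : (fun j => (adR chevE8 KK j).map (frobenius KK 2)) = adR chevE8 KK := by
    funext j
    exact adR_map chevE8 _ j
  rw [h3]
  rfl

theorem fr_er (s : ℕ) : fr (er s) = er s := by
  funext i
  unfold fr er
  split_ifs with h
  · by_cases h1 : i = Sum.inr ⟨s, h⟩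
    · rw [h1, Pi.single_eq_same, one_pow]
    · rw [Pi.single_eq_of_ne h1, zero_pow two_ne_zero]
  · show (0 : KK) ^ 2 = 0
    rw [zero_pow two_ne_zero]

theorem fr_inj : Function.Injective fr := by
  intro u v h
  have hch := charKK
  funext i
  have h1 : u i ^ 2 = v i ^ 2 := congrFun h i
  exact frobenius_inj KK 2 h1

/-- the Frobenius map in frame coordinates -/
noncomputable def Fp16 (v : LK) : LK := aK m16 (fr v)

theorem phi_m16 : phi chevE8 KK 2 1 m16 = m16 := good_m16.choose_spec.1.fix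

/-- `τ = m⁴` -/
noncomputable def tau16 : ↥(chevE8.group KK) := m16 ^ 4

theorem phi_tau16 : phi chevE8 KK 2 1 tau16 = tau16 := by
  unfold tau16
  rw [map_pow, phi_m16]

theorem tau16_sq : tau16 * tau16 = 1 := by
  unfold tau16
  rw [← pow_add, m16_pow]

theorem tau16_comm : m16 * tau16 = tau16 * m16 := by
  unfold tau16
  rw [← pow_succ, ← pow_succ']

/-- the action of an element as a linear map -/
noncomputable def lin (g : ↥(chevE8.group KK)) : LK →ₗ[KK] LK :=
  Matrix.mulVecLin (((g : GL chevE8.Idx KK) : Matrix chevE8.Idx chevE8.Idx KK))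

theorem lin_apply (g : ↥(chevE8.group KK)) (v : LK) : lin g v = aK g v := rfl

theorem aK_tau16 {s : ℕ} (hs : s < 240) : aK tau16 (er s) = er (wi (wi (wi (wi s)))) := by
  have h1 := wi_lt hs
  have h2 := wi_lt h1
  have h3 := wi_lt h2
  have e : tau16 = m16 * (m16 * (m16 * m16)) := by
    unfold tau16
    simp only [pow_succ, pow_zero, one_mul, mul_assoc]
  rw [e, aK_mul, aK_mul, aK_mul, aK_m16 hs, aK_m16 h1, aK_m16 h2, aK_m16 h3]

/-- **the operators of the frame** -/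
theorem ops16 : Ops Fp16 (lin tau16) where
  add u v := by
    have hch := charKK
    unfold Fp16
    rw [← aK_add]
    congr 1
    funext i
    exact map_add (frobenius KK 2) (u i) (v i)
  smul c u := by
    unfold Fp16
    rw [← aK_smul]
    congr 1
    funext i
    exact mul_pow _ _ _
  br u v := by
    unfold Fp16
    rw [fr_br, aK_brK]
  er s hs := by
    unfold Fp16
    rw [fr_er, aK_m16 hs]
  inj u v h := by
    apply fr_inj
    have h1 := congrArg (aK m16⁻¹) h
    unfold Fp16 at h1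
    rwa [aK_inv', aK_inv'] at h1
  tbr u v := aK_brK _ _ _
  ter s hs := aK_tau16 hs
  comm u := by
    show aK m16 (fr (aK tau16 u)) = aK tau16 (aK m16 (fr u))
    rw [fr_aK, phi_tau16, ← aK_mul, tau16_comm, aK_mul]
  tt u := by
    show aK tau16 (aK tau16 u) = u
    rw [← aK_mul, tau16_sq, aK_one]

/-- **the frame and the Frobenius map** -/
theorem frob16 {z : ↥(chevE8.group KK)} (hz : z⁻¹ * phi chevE8 KK 2 1 z = m16) (v : LK) :
    aK z⁻¹ (fr v) = Fp16 (aK z⁻¹ v) := by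
  unfold Fp16
  rw [fr_aK, ← aK_mul, map_inv, ← hz]
  congr 1
  group

/-! ### the torus element -/

theorem aK_t16 {t : ↥(chevE8.group KK)} {ζ : KK} (ht : t ∈ TT chevE8 KK) (hζ : IsPrimitiveRoot ζ 17)
    (hv : ∀ i, cX e8T t (sr i) = ζ ^ (V16 i).val) {s : ℕ} (hs : s < 240) :
    aK t (er s) = ζ ^ (wt16 s).val • er s := by
  have hs' : s < chevE8.nroots := by rw [nr]; exact hs
  have h1 := cX_eq_zpow ht (hζ.ne_zero (by norm_num)) hv (vec chevE8 8 s)
  have h2 : ζ ^ vl V16 (vec chevE8 8 s) = ζ ^ (wt16 s).val := by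
    have h3 : ((vl V16 (vec chevE8 8 s) : ℤ) : ZMod 17) = wt16 s := by
      unfold vl wt16
      push_cast
      refine Finset.sum_congr rfl fun i _ => ?_
      rw [ZMod.natCast_zmod_val, mul_comm]
      rfl
    rw [← h3, zpow_val hζ]
  funext i
  rw [aK_tor ht, Pi.smul_apply, smul_eq_mul, er_of hs']
  by_cases h : i = Sum.inr ⟨s, hs'⟩
  · rw [h, Pi.single_eq_same, mul_one, mul_one, ← h2, ← h1]
    rfl
  · rw [Pi.single_eq_of_ne h, mul_zero, mul_zero]

theorem aK_t_hv {t : ↥(chevE8.group KK)} (ht : t ∈ TT chevE8 KK) (c : Fin chevE8.rank → KK) : aK t (hv c) = hv c := by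
  funext i
  rw [aK_tor ht]
  rcases i with i | i
  · exact one_mul _
  · show _ * (0 : KK) = 0
    rw [mul_zero]

end Cfsg.Agent.H413.L16
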