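import Cfsg.Agent.H413.L16.Nel

/-!
# S5916: the log vector of `τ` in frame coordinates (helper413)
-/

set_option autoImplicit false
set_option maxRecDepth 100000

namespace Cfsg.Agent.H413.L16

open Cfsg.Agent.H939.L64

/-- the indices of the roots `γ_j` (weights 2, 4, 8, 16) -/
def gj : Fin 4 → ℕ := ![152, 159, 226, 239]

/-- the log vector of `τ` -/
noncomputable def cz : LK := ∑ j : Fin 4, (hr (gj j) + er (gj j) + er (239 - gj j))

theorem cz_eq : cz = (hr 152 + er 152 + er 87) + (hr 159 + er 159 + er 80) + (hr 226 + er 226 + er 13) +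
    (hr 239 + er 239 + er 0) := by
  unfold cz
  rw [Fin.sum_univ_four]
  rfl

end Cfsg.Agent.H413.L16
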