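import Cfsg.Agent.H413.L16.Nel
import Cfsg.Agent.H413.L64.Mate

/-!
# S5916: the frame of an element of order 17 of `E₈(2)` (helper413)

* `V16` : the values on the simple roots; `m16` : the product of seven reflection elements, `wT` its table;
* `good_nn` : the element `nn r` represents the reflection in the root `r` and permutes the root elements;
* `frame16` : the frame.
-/

set_option autoImplicit false
set_option linter.unusedSectionVars false
set_option maxRecDepth 100000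

namespace Cfsg.Agent.H413.L16

open CoxeterSystem Cfsg Cfsg.Lie Cfsg.Lie.ChevalleyDatum
open Cfsg.Agent.ChevalleyStructure Cfsg.Agent.ChevalleyStructure.Elts Cfsg.Agent.ChevalleyStructure.CoxeterGeom
  Cfsg.Agent.ChevalleyStructure.CoxeterGeomTypes Cfsg.Agent.ChevalleyStructure.NPerm
open Cfsg.Agent.Tits.Roots Cfsg.Agent.Tits.Core Cfsg.Agent.Nodes Cfsg.Agent.Nodes.Reps Cfsg.Agent.Nodes.BNOf
  Cfsg.Agent.Nodes.RGDChev Cfsg.Agent.Nodes.Bruhat Cfsg.Agent.Nodes.SubComb Cfsg.Agent.Nodes.Coroot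
open Cfsg.Agent.KFacts.RgdField Cfsg.Agent.KFacts.RgdChevCoord Cfsg.Agent.BpExc.TorCent Cfsg.Agent.BpExc.TorChev
open Cfsg.Agent.GpExc.Field Cfsg.Agent.BpExc.Tow Cfsg.Agent.BpExc.TowChev Cfsg.Agent.BpExc.Fr
  Cfsg.Agent.BpExc.LangFr Cfsg.Agent.LangThm Cfsg.Agent.BpExc Cfsg.Agent.H129.TorusMain Cfsg.Agent.H129.TorusUntw
open Cfsg.Agent.H129.TorusChar (cX cX_pow cX_one cX_inj isMC_cX cX_root cX_rp cX_mul ch_sigma exists_cX)
open Cfsg.Agent.H720.TorusReal Cfsg.Agent.H897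
open Cfsg.Agent.H897.T5Frame (bc rc bf_eq)
open Cfsg.Agent.H897.T5UntwRow (A8)
open Cfsg.Agent.H378.TorFin (phi_emb' fix_mem)
open Cfsg.Agent.BpExc.RowsUntw (e8T)
open Cfsg.Agent.H939.L64
open Cfsg.Agent.H413.L64
open Cfsg.Agent.H876.L64

/-- the Coxeter system of `E₈` -/
abbrev cs8 : CoxeterSystem CoxeterMatrix.E₈ CoxeterMatrix.E₈.Group := CoxeterMatrix.E₈.toCoxeterSystem

/-- the action on the root lattice -/
noncomputable abbrev act (w : CoxeterMatrix.E₈.Group) (x : Fin 8 → ℤ) : Fin 8 → ℤ := rep cs8 e8T.isCartan w x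

/-- `g` represents `w` and permutes the root elements without signs -/
structure Good (w : CoxeterMatrix.E₈.Group) (g : ↥(chevE8.group KK)) : Prop where
  rp : Rp cs8 nsysKK w g
  conj : ∀ r < chevE8.nroots, ∀ c : KK, g * xc e8T (vec chevE8 8 r) c * g⁻¹ = xc e8T (act w (vec chevE8 8 r)) c
  fix : phi chevE8 KK 2 1 g = g

theorem vec_act (w : CoxeterMatrix.E₈.Group) {r : ℕ} (hr : r < chevE8.nroots) :
    ∃ s < chevE8.nroots, vec chevE8 8 s = act w (vec chevE8 8 r) := by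
  have h1 := (isRoot_iff e8T cs8 _).2 ⟨r, hr, rfl⟩
  exact (isRoot_iff e8T cs8 _).1 (h1.act w)

theorem Good.mul {v w : CoxeterMatrix.E₈.Group} {g k : ↥(chevE8.group KK)} (hg : Good v g) (hk : Good w k) :
    Good (v * w) (g * k) := by
  refine ⟨hg.rp.mul hk.rp, fun r hr c => ?_, by rw [map_mul, hg.fix, hk.fix]⟩
  obtain ⟨s, hs, hsr⟩ := vec_act w hr
  have h1 := hk.conj r hr c
  rw [← hsr] at h1
  have h2 := hg.conj s hs c
  have h3 : act (v * w) (vec chevE8 8 r) = act v (act w (vec chevE8 8 r)) := rep_mul_apply _ _ _ _ _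
  rw [h3, ← hsr, ← h2, ← h1]
  group

theorem good_one : Good 1 1 := by
  refine ⟨rp_one, fun r _ c => ?_, map_one _⟩
  rw [one_mul, inv_one, mul_one]
  show _ = xc e8T (rep cs8 e8T.isCartan 1 (vec chevE8 8 r)) c
  rw [map_one]
  exact rfl

theorem cast_unit {η : ℤ} (h : η = 1 ∨ η = -1) : (η : KK) = 1 := by
  rcases h with rfl | rfl
  · exact Int.cast_one
  · exact cast_odd (by decide)

theorem phi_xc (v : Fin 8 → ℤ) (c : KK) : phi chevE8 KK 2 1 (xc e8T v c) = xc e8T v (c ^ 2) := by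
  have := charKK
  apply Subtype.ext
  rw [coe_phi]
  apply Units.ext
  show (glMap chevE8 (iterateFrobenius KK 2 1) (xG e8T.inList (idx chevE8 8 v) c)).1 = (xG e8T.inList (idx chevE8 8 v) (c ^ 2)).1
  rw [coe_glMap, coe_xG, coe_xG, WordEntry.x_map]
  congr 1

theorem vec_neg8 {r : ℕ} (hr : r < 240) : vec chevE8 8 (239 - r) = -vec chevE8 8 r := by
  have h := vec_neg e8T (show r < chevE8.nroots by rw [nr]; exact hr)
  rwa [show chevE8.neg r = 239 - r from neg_eq hr] at h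

theorem nc_eq (i : Fin 8) : nc e8T KK i = xc e8T (sr i) 1 * xc e8T (-sr i) 1 * xc e8T (sr i) 1 := by
  have hs := simple_lt e8T.inList (lt_rank e8T i)
  have hn := neg_lt e8T.inList hs
  have e1 := vec_simple e8T i
  apply Subtype.ext
  rw [Subgroup.coe_mul, Subgroup.coe_mul]
  have h1 : ((xc e8T (sr i) (1 : KK) : ↥(chevE8.group KK)) : GL chevE8.Idx KK) = xG e8T.inList (chevE8.simple i) 1 := by
    rw [← e1, coe_xc e8T hs]
  have h2 : ((xc e8T (-sr i) (1 : KK) : ↥(chevE8.group KK)) : GL chevE8.Idx KK) =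
      xG e8T.inList (chevE8.neg (chevE8.simple i)) 1 := by
    rw [← e1, ← vec_neg e8T hs, coe_xc e8T hn]
  rw [h1, h2]
  show nG e8T.inList (chevE8.simple i) 1 = _
  have h3 : -(1 : KK)⁻¹ = 1 := by
    rw [inv_one, neg_eq_iff_add_eq_zero, one_add_one_eq_two]
    exact two_zero
  rw [nG_def, h3, mul_assoc]

theorem good_simple (i : Fin 8) : Good (cs8.simple i) (nc e8T KK i) := by
  refine ⟨rp_simple cs8 nsysKK i, fun r hr a => ?_, ?_⟩
  · obtain ⟨η, hη, h⟩ := Cfsg.Agent.S1031.result (F := KK) chevE8 e8T.inList i r (lt_rank e8T i) hr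
    have h1 : act (cs8.simple i) (vec chevE8 8 r) = vec chevE8 8 (chevE8.reflectRoot i r) := rep_vec e8T cs8 i hr
    rw [h1]
    apply Subtype.ext
    rw [Subgroup.coe_mul, Subgroup.coe_mul, Subgroup.coe_inv, coe_xc e8T hr,
      coe_xc e8T (reflectRoot_lt e8T.inList (lt_rank e8T i) hr)]
    show nG e8T.inList (chevE8.simple i) 1 * _ * (nG e8T.inList (chevE8.simple i) 1)⁻¹ = _
    rw [mul_inv_eq_iff_eq_mul]
    apply Units.ext
    rw [Units.val_mul, Units.val_mul, coe_nG, coe_xG, coe_xG]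
    have h2 := h a
    rwa [cast_unit hη, one_mul] at h2
  · rw [nc_eq, map_mul, map_mul, phi_xc, phi_xc, one_pow]

theorem exists_good (w : CoxeterMatrix.E₈.Group) : ∃ g, Good w g := by
  obtain ⟨ω, rfl⟩ := cs8.wordProd_surjective w
  induction ω with
  | nil => exact ⟨1, by rw [CoxeterSystem.wordProd_nil]; exact good_one⟩
  | cons i ω ih =>
    obtain ⟨g, hg⟩ := ih
    exact ⟨_, by rw [CoxeterSystem.wordProd_cons]; exact (good_simple i).mul hg⟩

theorem Good.inv {w : CoxeterMatrix.E₈.Group} {g : ↥(chevE8.group KK)} (hg : Good w g) : Good w⁻¹ g⁻¹ := by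
  refine ⟨hg.rp.inv, fun r hr c => ?_, by rw [map_inv, hg.fix]⟩
  obtain ⟨s, hs, hsr⟩ := vec_act w⁻¹ hr
  have h1 := hg.conj s hs c
  rw [hsr] at h1
  have h2 : act w (act w⁻¹ (vec chevE8 8 r)) = vec chevE8 8 r := by
    show rep cs8 e8T.isCartan w (rep cs8 e8T.isCartan w⁻¹ (vec chevE8 8 r)) = _
    rw [← rep_mul_apply, mul_inv_cancel, map_one]
    rfl
  rw [h2] at h1
  rw [← h1]
  group

/-- **the reflection elements** -/
theorem good_nn {r : ℕ} (hr : r < 240) : ∃ w, Good w (nn r) ∧ ∀ x, act w x = rc A8 (vec chevE8 8 r) x := by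
  have hr' : r < chevE8.nroots := by rw [nr]; exact hr
  have hW : Finite CoxeterMatrix.E₈.Group := finite_W e8T cs8
  obtain ⟨v, i, hv⟩ := (isRoot_iff e8T cs8 _).2 ⟨r, hr', rfl⟩
  obtain ⟨g, hg⟩ := exists_good v
  have hs := simple_lt e8T.inList (lt_rank e8T i)
  have hn := neg_lt e8T.inList hs
  have e1 := vec_simple e8T i
  have h1 : nn r = g * nc e8T KK i * g⁻¹ := by
    have a1 := hg.conj _ hs 1
    have a2 := hg.conj _ hn 1
    have b1 : act v (vec chevE8 8 (chevE8.simple i)) = vec chevE8 8 r := by rw [e1]; exact hv.symm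
    have b2 : act v (vec chevE8 8 (chevE8.neg (chevE8.simple i))) = -vec chevE8 8 r := by
      rw [vec_neg e8T hs]
      show rep cs8 e8T.isCartan v (-_) = _
      rw [map_neg]
      exact congrArg Neg.neg b1
    rw [b1, e1] at a1
    rw [b2, vec_neg e8T hs, e1] at a2
    rw [nc_eq]
    unfold nn xr
    rw [vec_neg8 hr, ← a1, ← a2]
    group
  refine ⟨v * cs8.simple i * v⁻¹, ?_, fun x => ?_⟩
  · rw [h1]
    exact (hg.mul (good_simple i)).mul hg.inv
  · have hA : ∀ i j, cartanOf chevE8 8 i j = A8 i j := T5UntwRow.frOK8.hA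
    have hFrm := T5UntwRow.par8.frm cs8 e8T.isCartan (fun i j => (T5UntwRow.n8 i j).1) (fun i j => (T5UntwRow.n8 i j).2)
    have h3 := hFrm.cpr x (vec chevE8 8 r) ⟨v, i, hv⟩
    rw [bf_eq hA] at h3
    show rep cs8 e8T.isCartan (rfl' cs8 v i) x = _
    rw [rep_rfl'_eq, ← hv, rc, h3]

end Cfsg.Agent.H413.L16
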