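import Cfsg.Agent.H413.L16.Br

/-!
# S5916: the root elements of `E₈` in characteristic two on the adjoint module (helper413)
-/

set_option autoImplicit false
set_option maxRecDepth 100000

namespace Cfsg.Agent.H413.L16

open Cfsg Cfsg.Lie Cfsg.Lie.ChevalleyDatum
open Cfsg.Agent.ChevalleyStructure Cfsg.Agent.ChevalleyStructure.Elts Cfsg.Agent.ChevalleyStructure.Ring
  Cfsg.Agent.ChevalleyStructure.LieAut Cfsg.Agent.ChevalleyStructure.JacMain Cfsg.Agent.ChevalleyStructure.LieAbs
  Cfsg.Agent.ChevalleyStructure.CoxeterGeomTypes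
open Cfsg.Agent.Nodes.RGDChev Cfsg.Agent.KFacts.RgdChevCoord
open Cfsg.Agent.H942.E8Tab
open Cfsg.Agent.H939.L64 Cfsg.Agent.H512.LinFour.IdealF
open Cfsg.Agent.ChevalleyStructure.Columns (car cor)
open Cfsg.Agent.H876.L64
open Cfsg.Agent.H413.L64 (charKK)

theorem lac8 : Lac chevE8 := ⟨by simp, by decide +kernel, by decide +kernel⟩

/-- the root elements -/
noncomputable def xr (r : ℕ) (c : KK) : ↥(chevE8.group KK) := xc e8T (vec chevE8 8 r) c

theorem coe_xr {r : ℕ} (hr : r < 240) (c : KK) :
    (((xr r c : ↥(chevE8.group KK)) : GL chevE8.Idx KK) : Matrix chevE8.Idx chevE8.Idx KK) = chevE8.x KK r c := by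
  have h := coe_xc e8T (K := KK) (by rw [nr]; exact hr : r < chevE8.nroots) c
  rw [xr, h]
  rfl

theorem xr_add {r : ℕ} (hr : r < 240) (a b : KK) : xr r a * xr r b = xr r (a + b) := by
  apply Subtype.ext
  apply Units.ext
  rw [Subgroup.coe_mul, Units.val_mul, coe_xr hr, coe_xr hr, coe_xr hr, x_add e8T.inList]

theorem xr_zero {r : ℕ} (hr : r < 240) : xr r 0 = 1 := by
  apply Subtype.ext
  apply Units.ext
  rw [coe_xr hr, x_zero e8T.inList]
  rfl

/-- every entry of the chain table has height one -/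
theorem chain_one {r s u : ℕ} (hr : r < 240) : ∀ km ∈ chevE8.chainCoeff r s u, km.1 = 1 := by
  intro km h
  have hk := okRow_spec hr
  unfold okRow at hk
  rw [Bool.and_eq_true] at hk
  unfold chainCoeff at h
  obtain ⟨e, he, h1⟩ := List.mem_flatMap.1 h
  obtain ⟨q, hq, rfl⟩ := List.mem_map.1 h1
  have h4 := List.all_eq_true.1 hk.1 e (List.mem_of_mem_filter he)
  simp only [Bool.and_eq_true, decide_eq_true_eq] at h4
  obtain ⟨x, hx⟩ := List.length_eq_one_iff.1 h4.1.1.2
  have h5 := List.mem_of_mem_filter hq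
  rw [hx, List.zipIdx_singleton, List.mem_singleton] at h5
  rw [h5]

/-- the quadratic part of a root element -/
theorem sq_part {r : ℕ} (hr : r < 240) (w : LK) :
    ((coefE chevE8 r 2).map (Int.castRingHom KK)).mulVec w =
      w (Sum.inr ⟨239 - r, by rw [nr]; omega⟩) • er r := by
  have hr' : r < chevE8.nroots := by rw [nr]; exact hr
  have hn : 239 - r < chevE8.nroots := by rw [nr]; omega
  have key : ∀ a c : chevE8.Idx, ((coefE chevE8 r 2 a c : ℤ) : KK) =
      if c = Sum.inr ⟨239 - r, hn⟩ ∧ a = Sum.inr ⟨r, hr'⟩ then 1 else 0 := by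
    intro a c
    rw [coefE_entry chevE8 r 2 hr', neg_eq hr]
    rcases c with c | c
    · have h0 : ¬ ((Sum.inl c : chevE8.Idx) = Sum.inr ⟨239 - r, hn⟩ ∧ a = Sum.inr ⟨r, hr'⟩) := fun h => by simp at h
      rw [if_neg h0]
      rcases a with a | a <;> simp
    · by_cases h1 : (c : ℕ) = r
      · have h0 : ¬ ((Sum.inr c : chevE8.Idx) = Sum.inr ⟨239 - r, hn⟩ ∧ a = Sum.inr ⟨r, hr'⟩) := fun h => by
          have h2 : (c : ℕ) = 239 - r := congrArg Fin.val (Sum.inr.inj h.1)
          omega
        rw [if_neg h0]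
        simp only [if_pos h1]
        rcases a with a | a <;> simp
      · by_cases h2 : (c : ℕ) = 239 - r
        · simp only [if_neg h1, if_pos h2]
          have hc : c = ⟨239 - r, hn⟩ := Fin.ext h2
          rcases a with a | a
          · have h0 : ¬ ((Sum.inr c : chevE8.Idx) = Sum.inr ⟨239 - r, hn⟩ ∧ (Sum.inl a : chevE8.Idx) = Sum.inr ⟨r, hr'⟩) :=
              fun h => by simp at h
            rw [if_neg h0]
            simp
          · by_cases h3 : (a : ℕ) = r
            · have ha : a = ⟨r, hr'⟩ := Fin.ext h3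
              have h0 : ((Sum.inr c : chevE8.Idx) = Sum.inr ⟨239 - r, hn⟩ ∧ (Sum.inr a : chevE8.Idx) = Sum.inr ⟨r, hr'⟩) :=
                ⟨by rw [hc], by rw [ha]⟩
              rw [if_pos h0]
              have h4 : a ≠ c := fun h => h1 (by rw [← h]; exact h3)
              simp only [if_neg h4]
              rw [if_pos ⟨trivial, h3⟩, Int.cast_neg, Int.cast_one, neg_eq_iff_add_eq_zero]
              have h5 : (1 : KK) + 1 = 0 := by rw [one_add_one_eq_two]; exact two_zero
              exact h5
            · have h0 : ¬ ((Sum.inr c : chevE8.Idx) = Sum.inr ⟨239 - r, hn⟩ ∧ (Sum.inr a : chevE8.Idx) = Sum.inr ⟨r, hr'⟩) :=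
                fun h => h3 (congrArg Fin.val (Sum.inr.inj h.2))
              rw [if_neg h0]
              simp [h3]
        · have h0 : ¬ ((Sum.inr c : chevE8.Idx) = Sum.inr ⟨239 - r, hn⟩ ∧ a = Sum.inr ⟨r, hr'⟩) :=
            fun h => h2 (congrArg Fin.val (Sum.inr.inj h.1))
          rw [if_neg h0]
          simp only [if_neg h1, if_neg h2]
          rcases a with a | a
          · simp
          · show (((if 2 = 0 ∧ a = c then 1 else 0) + ((chevE8.chainCoeff r (c : ℕ) (a : ℕ)).map
              fun km : ℕ × ℤ => if km.1 = 2 then km.2 else 0).sum : ℤ) : KK) = 0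
            rw [if_neg (by simp), zero_add]
            have : ((chevE8.chainCoeff r (c : ℕ) (a : ℕ)).map fun km : ℕ × ℤ => if km.1 = 2 then km.2 else 0).sum = 0 := by
              apply List.sum_eq_zero
              intro x hx
              obtain ⟨km, hkm, rfl⟩ := List.mem_map.1 hx
              rw [chain_one hr km hkm]
              simp
            rw [this, Int.cast_zero]
  funext a
  rw [Matrix.mulVec, dotProduct, Pi.smul_apply, smul_eq_mul, er_of hr']
  have h1 : ∀ c, ((coefE chevE8 r 2).map (Int.castRingHom KK)) a c = ((coefE chevE8 r 2 a c : ℤ) : KK) := fun c => rfl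
  rw [Finset.sum_eq_single (Sum.inr ⟨239 - r, hn⟩)]
  · rw [h1, key]
    by_cases h : a = Sum.inr ⟨r, hr'⟩
    · rw [if_pos ⟨rfl, h⟩, h, Pi.single_eq_same, one_mul, mul_one]
    · rw [if_neg (fun h2 => h h2.2), Pi.single_eq_of_ne h, zero_mul, mul_zero]
  · intro c _ hc
    rw [h1, key, if_neg (fun h => hc h.1), zero_mul]
  · intro h
    exact absurd (Finset.mem_univ _) h

/-- **the action of a root element** -/
theorem aK_xr {r : ℕ} (hr : r < 240) (c : KK) (w : LK) : aK (xr r c) w =
    w + c • brK (er r) w + (c ^ 2 * w (Sum.inr ⟨239 - r, by rw [nr]; omega⟩)) • er r := by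
  have hr' : r < chevE8.nroots := by rw [nr]; exact hr
  unfold aK
  rw [coe_xr hr, Cfsg.Agent.H971.RV.x_eq_three lac8 hr', Matrix.add_mulVec, Matrix.add_mulVec, Matrix.one_mulVec,
    Matrix.smul_mulVec, Matrix.smul_mulVec, sq_part hr, smul_smul]
  congr 3
  show _ = (adv (adR chevE8 KK) (er r)).mulVec w
  rw [er_of hr', adv_single_one]
  rfl

theorem er_inr {a : ℕ} (s : Fin chevE8.nroots) : er a (Sum.inr s) = if a = s then 1 else 0 := by
  by_cases h : a < chevE8.nroots
  · rw [er_of h]
    by_cases h1 : a = s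
    · subst h1
      rw [if_pos rfl]
      exact Pi.single_eq_same _ _
    · rw [if_neg h1]
      exact Pi.single_eq_of_ne (fun h2 => h1 (congrArg Fin.val (Sum.inr.inj h2)).symm) _
  · rw [er_ge (by rw [nr] at h; omega), if_neg (fun h1 => h (by rw [h1]; exact s.2))]
    rfl

theorem hr_inr (a : ℕ) (s : Fin chevE8.nroots) : hr a (Sum.inr s) = 0 := rfl

theorem add_self' (v : LK) : v + v = 0 := by
  rw [← two_smul KK, two_zero, zero_smul]

/-- a root element with the parameter one on a root vector -/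
theorem aK_xr_er {r a : ℕ} (h : r < 240) (ha : a < 240) (hn : a ≠ 239 - r) (c : KK) :
    aK (xr r c) (er a) = er a + c • er (tg r a) := by
  rw [aK_xr h, br_rr h ha hn, er_inr, if_neg hn, mul_zero, zero_smul, add_zero]

theorem aK_xr_neg {r : ℕ} (h : r < 240) (c : KK) :
    aK (xr r c) (er (239 - r)) = er (239 - r) + c • hr r + c ^ 2 • er r := by
  rw [aK_xr h, br_neg h, er_inr, if_pos rfl, mul_one]

theorem tg_self {r : ℕ} (h : r < 240) : tg r r = 240 := by
  obtain ⟨-, h2, h3⟩ := chain_mod (s := r) (u := 0) h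
  by_contra h4
  exact (h2 (by omega)).1 rfl

theorem aK_xr_self {r : ℕ} (h : r < 240) (c : KK) : aK (xr r c) (er r) = er r := by
  rw [aK_xr_er h h (by omega), tg_self h, er_ge le_rfl, smul_zero, add_zero]

/-- `⟨r, r⟩ = 2` -/
theorem br_hr_self {r : ℕ} (h : r < 240) : brK (er r) (hr r) = 0 := by
  have h1 : aK (xr r 1) (aK (xr r 1) (er (239 - r))) = er (239 - r) := by
    rw [← aK_mul, xr_add h]
    have : (1 : KK) + 1 = 0 := by rw [one_add_one_eq_two]; exact two_zero
    rw [this, xr_zero h, aK_one]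
  rw [aK_xr_neg h, one_smul, one_pow, one_smul, aK_add, aK_add, aK_xr_neg h, aK_xr_self h, aK_xr h 1 (hr r), one_smul,
    one_smul, one_pow, one_smul, hr_inr, mul_zero, zero_smul, add_zero] at h1
  have h2 : er (239 - r) + hr r + er r + (hr r + brK (er r) (hr r)) + er r =
      er (239 - r) + brK (er r) (hr r) + (hr r + hr r) + (er r + er r) := by abel
  rw [h2, add_self', add_self', add_zero, add_zero] at h1
  exact add_eq_left.1 h1

theorem aK_xr_hr {r : ℕ} (h : r < 240) (c : KK) : aK (xr r c) (hr r) = hr r := by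
  rw [aK_xr h, br_hr_self h, smul_zero, hr_inr, mul_zero, zero_smul, add_zero, add_zero]

/-- the reflection elements -/
noncomputable def nn (r : ℕ) : ↥(chevE8.group KK) := xr r 1 * xr (239 - r) 1 * xr r 1

theorem nn_apply (r : ℕ) (v : LK) : aK (nn r) v = aK (xr r 1) (aK (xr (239 - r) 1) (aK (xr r 1) v)) := by
  unfold nn
  rw [aK_mul, aK_mul]

/-- the index of `s_r a` -/
def rf (r a : ℕ) : ℕ :=
  if a = r then 239 - r else if a = 239 - r then r else
    if tg r a < 240 then tg r a else if tg (239 - r) a < 240 then tg (239 - r) a else a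

/-- the check for one root -/
def okN (r : ℕ) : Bool := (List.range 240).all fun a => decide (a = r) || decide (a = 239 - r) ||
  (if tg r a < 240 then decide (tg (239 - r) a = 240 ∧ tg (239 - r) (tg r a) = a ∧ tg r (tg r a) = 240 ∧ tg r a ≠ 239 - r ∧ tg r a ≠ r)
    else if tg (239 - r) a < 240 then decide (tg r (tg (239 - r) a) = a ∧ tg (239 - r) (tg (239 - r) a) = 240 ∧ tg (239 - r) a ≠ 239 - r ∧
      tg (239 - r) a ≠ r) else true)

theorem aK_nn_self {r : ℕ} (h : r < 240) : aK (nn r) (er r) = er (239 - r) := by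
  have h' : 239 - r < 240 := by omega
  have e : 239 - (239 - r) = r := by omega
  have h1 := aK_xr_neg h' 1
  rw [e] at h1
  rw [nn_apply, aK_xr_self h, h1, one_smul, one_pow, one_smul, aK_add, aK_add, aK_xr_self h, hr_neg h, aK_xr_hr h,
    aK_xr_neg h, one_smul, one_pow, one_smul]
  have h2 : er r + hr r + (er (239 - r) + hr r + er r) = er (239 - r) + (hr r + hr r) + (er r + er r) := by abel
  rw [h2, add_self', add_self', add_zero, add_zero]

theorem aK_nn_neg {r : ℕ} (h : r < 240) : aK (nn r) (er (239 - r)) = er r := by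
  have h' : 239 - r < 240 := by omega
  have e : 239 - (239 - r) = r := by omega
  have h1 := aK_xr_neg h' 1
  rw [e] at h1
  have h3 := aK_xr_hr h' 1
  rw [hr_neg h] at h3
  have h5 : aK (xr (239 - r) 1) (er (239 - r) + hr r + er r) = er r := by
    rw [aK_add, aK_add, aK_xr_self h', h1, h3, hr_neg h, one_smul, one_pow, one_smul]
    have h2 : er (239 - r) + hr r + (er r + hr r + er (239 - r)) = er r + (hr r + hr r) + (er (239 - r) + er (239 - r)) := by abel
    rw [h2, add_self', add_self', add_zero, add_zero]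
  rw [nn_apply, aK_xr_neg h, one_smul, one_pow, one_smul, h5, aK_xr_self h]

/-- **the reflection elements permute the root vectors** -/
theorem aK_nn {r a : ℕ} (h : r < 240) (hk : okN r = true) (ha : a < 240) : aK (nn r) (er a) = er (rf r a) ∧ rf r a < 240 := by
  have h' : 239 - r < 240 := by omega
  unfold rf
  by_cases h1 : a = r
  · subst h1
    rw [if_pos rfl]
    exact ⟨aK_nn_self h, h'⟩
  rw [if_neg h1]
  by_cases h2 : a = 239 - r
  · subst h2
    rw [if_pos rfl]
    exact ⟨aK_nn_neg h, h⟩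
  rw [if_neg h2]
  have h3 := List.all_eq_true.1 hk a (List.mem_range.2 ha)
  rw [decide_eq_false h1, decide_eq_false h2, Bool.false_or, Bool.false_or] at h3
  have hra : a ≠ 239 - (239 - r) := by omega
  by_cases h4 : tg r a < 240
  · rw [if_pos h4] at h3 ⊢
    obtain ⟨b1, b2, b3, b4, b5⟩ := of_decide_eq_true h3
    refine ⟨?_, h4⟩
    rw [nn_apply, aK_xr_er h ha h2, one_smul, aK_add, aK_xr_er h' ha hra, b1, er_ge le_rfl, smul_zero, add_zero,
      aK_xr_er h' h4 (by omega), b2, one_smul]
    have e1 : er a + (er (tg r a) + er a) = er (tg r a) + (er a + er a) := by abel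
    rw [e1, add_self', add_zero, aK_xr_er h h4 b4, b3, er_ge le_rfl, smul_zero, add_zero]
  · rw [if_neg h4] at h3 ⊢
    have h5 : tg r a = 240 := by have := tg_le h a; omega
    by_cases h6 : tg (239 - r) a < 240
    · rw [if_pos h6] at h3 ⊢
      obtain ⟨b2, b3, b4, b5⟩ := of_decide_eq_true h3
      refine ⟨?_, h6⟩
      rw [nn_apply, aK_xr_er h ha h2, h5, er_ge le_rfl, smul_zero, add_zero, aK_xr_er h' ha hra, one_smul, aK_add,
        aK_xr_er h ha h2, h5, er_ge le_rfl, smul_zero, add_zero, aK_xr_er h h6 b4, b2, one_smul]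
      have e1 : er a + (er (tg (239 - r) a) + er a) = er (tg (239 - r) a) + (er a + er a) := by abel
      rw [e1, add_self', add_zero]
    · have h7 : tg (239 - r) a = 240 := by have := tg_le h' a; omega
      rw [if_neg h6]
      refine ⟨?_, ha⟩
      rw [nn_apply, aK_xr_er h ha h2, h5, er_ge le_rfl, smul_zero, add_zero, aK_xr_er h' ha hra, h7, er_ge le_rfl,
        smul_zero, add_zero, aK_xr_er h ha h2, h5, er_ge le_rfl, smul_zero, add_zero]

/-- an element permuting two opposite pairs of root vectors on the Cartan vectors -/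
theorem aK_hr {g : ↥(chevE8.group KK)} {a b : ℕ} (ha : a < 240) (hb : b < 240) (h1 : aK g (er a) = er b)
    (h2 : aK g (er (239 - a)) = er (239 - b)) : aK g (hr a) = hr b := by
  rw [← br_neg ha, aK_brK, h1, h2, br_neg hb]

end Cfsg.Agent.H413.L16
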